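/-
Unitary quotients of dimension prime to three: sections in dimension four and five, central
2-elements.
-/
import Cfsg.Agent.Lib.Rad.Cyc
import Cfsg.Agent.Lib.Fth.Tab
import Cfsg.Agent.Lib.Tilde.U5

set_option autoImplicit false
set_option linter.unusedSectionVars false
set_option linter.unusedVariables false
set_option maxRecDepth 100000

namespace CA.Rad

open Cfsg Subgroup CA.Fi CA.TT CA.Tl CA.TM CA.Fth CA.Unit CA.Cl

universe u

section

variable {H : Type*} [Group H] [Finite H] {M : Type*} [AddCommGroup M] {φ : H →* AddMonoid.End M}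
  {D : Set H}

/-- central elements of odd order -/
def oddC (H : Type*) [Group H] : Subgroup H where
  carrier := {x | x ∈ center H ∧ Odd (orderOf x)}
  mul_mem' := fun {a b} ha hb => ⟨mul_mem ha.1 hb.1, Odd.of_dvd_nat (ha.2.mul hb.2)
    (Commute.orderOf_mul_dvd_mul_orderOf (mem_center_iff.1 hb.1 a))⟩
  one_mem' := ⟨one_mem _, by simp⟩
  inv_mem' := fun ha => ⟨inv_mem ha.1, by simpa using ha.2⟩

instance oddC_normal : (oddC H).Normal :=
  ⟨fun x hx g => by rwa [mem_center_iff.1 hx.1 g, mul_inv_cancel_right]⟩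

theorem pow_mem_oddC {x : H} (hx : x ∈ center H) : ∃ k : ℕ, x ^ 2 ^ k ∈ oddC H := by
  obtain ⟨k, m, hm, e⟩ := Nat.exists_eq_two_pow_mul_odd (orderOf_pos x).ne'
  refine ⟨k, pow_mem hx _, Odd.of_dvd_nat hm (orderOf_dvd_of_pow_eq_one ?_)⟩
  rw [← pow_mul, ← e, pow_orderOf_eq_one]

/-- central elements acting trivially on all `[M, d]` -/
def trC (D : Set H) (φ : H →* AddMonoid.End M) : Subgroup H where
  carrier := {x | x ∈ center H ∧ ∀ d ∈ D, ∀ u, InV φ d u → φ x u = u}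
  mul_mem' := fun {a b} ha hb => ⟨mul_mem ha.1 hb.1, fun d hd u hu => by
    rw [TM.act_mul, hb.2 d hd u hu, ha.2 d hd u hu]⟩
  one_mem' := ⟨one_mem _, fun d hd u hu => act_one u⟩
  inv_mem' := fun {a} ha => ⟨inv_mem ha.1, fun d hd u hu => by
    conv_lhs => rw [← ha.2 d hd u hu]
    exact act_inv' a u⟩

theorem mem_trC (hD : TMod D φ) {x e : H} (hx : x ∈ center H) (he : e ∈ D)
    (h : ∀ u, InV φ e u → φ x u = u) : x ∈ trC D φ := by
  refine ⟨hx, fun d hd u hu => ?_⟩
  obtain ⟨g, hg⟩ := class_exists_conj hD.cls hd he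
  have h1 := h _ (hg ▸ hu.conj g)
  rw [← TM.act_mul, ← mem_center_iff.1 hx g, TM.act_mul] at h1
  rw [← act_inv' (φ := φ) g (φ x u), h1, act_inv']

theorem um_lifts {V : Type*} [AddCommGroup V] [Module F4 V] [FiniteDimensional F4 V]
    {h : Herm F4 V} {t : V → H} (hD : IsThreeTranspositionClass D) (k : UM D h t)
    (hn : 4 ≤ Module.finrank F4 V) : ∃ π : H →* PU h, Function.Surjective π ∧
      (∀ x, π x = 1 → x ∈ center H) ∧ Lifts π t ∧ closure (tSet h t) = ⊤ := by
  have hK := F4.hK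
  have e0 : Set.range (fun p : {v // h v v = 0 ∧ v ≠ 0} => tva h p.1) = tvaSet h :=
    Set.ext fun x => ⟨by rintro ⟨p, rfl⟩; exact ⟨_, p.2.1, p.2.2, rfl⟩,
      by rintro ⟨v, hv, h0, rfl⟩; exact ⟨⟨v, hv, h0⟩, rfl⟩⟩
  have e1 : Set.range (fun p : {v // h v v = 0 ∧ v ≠ 0} => t p.1) = D :=
    Set.ext fun x => ⟨by rintro ⟨p, rfl⟩; exact k.mem _ p.2.1 p.2.2, fun hx => by
      obtain ⟨v, hv, h0, rfl⟩ := k.surj x hx; exact ⟨⟨v, hv, h0⟩, rfl⟩⟩
  have e2 : tSet h t = D :=
    Set.ext fun x => ⟨by rintro ⟨v, hv, h0, rfl⟩; exact k.mem _ hv h0, fun hx => by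
      obtain ⟨v, hv, h0, rfl⟩ := k.surj x hx; exact ⟨v, hv, h0, rfl⟩⟩
  have fib : ∀ v w, h v v = 0 → v ≠ 0 → h w w = 0 → w ≠ 0 → (t v = t w ↔ tva h v = tva h w) :=
    fun v w hv v0 hw w0 => (k.eq_iff _ _ hv v0 hw w0).trans
      (tva_eq_iff hK k.nd (by omega) hv hw v0 w0).symm
  have sq : ∀ v, h v v = 0 → v ≠ 0 → t v * t v = 1 := fun v hv v0 => TT.sq hD.1 (k.mem v hv v0)
  obtain ⟨e, he⟩ := iso_of_conj (P := {v // h v v = 0 ∧ v ≠ 0}) (fun p => t p.1)
    (fun p => tva h p.1) (by rw [e1]; exact hD.2.2) (by rw [e0]; exact closure_tvaSet hK k.nd hn)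
    (fun p => sq _ p.2.1 p.2.2) (fun p => tva_mul_self hK p.2.1)
    (fun p q => fib _ _ p.2.1 p.2.2 q.2.1 q.2.2)
    fun p q => ⟨⟨_, iso_conj hK p.2.1 q.2.1, ne_zero_conj hK p.2.1 q.2.2⟩, by
      rw [inv_eq_of_mul_eq_one_right (sq _ p.2.1 p.2.2)]
      exact k.conj _ _ p.2.1 p.2.2 q.2.1 q.2.2, tva_conj hK p.2.1 _⟩
  have hZ := center_PU hK k.nd hn
  let π : H →* PU h := (e.trans (quotCenterBot hZ)).toMonoidHom.comp (QuotientGroup.mk' _)
  have pt : ∀ v, h v v = 0 → v ≠ 0 → π (t v) = tva h v := fun v hv v0 => by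
    change quotCenterBot hZ (e (t v)) = _
    rw [he ⟨v, hv, v0⟩, quotCenterBot_mk]
  refine ⟨π, (e.trans (quotCenterBot hZ)).surjective.comp (QuotientGroup.mk'_surjective _),
    fun x hx => ?_, ⟨pt, fun x v w hv v0 hw w0 E => ?_, sq⟩, e2 ▸ hD.2.2⟩
  · exact (QuotientGroup.eq_one_iff x).1 ((e.trans (quotCenterBot hZ)).map_eq_one_iff.1 hx)
  · obtain ⟨v', hv', v0', E'⟩ := k.surj _ (class_conj_mem hD x (k.mem v hv v0))
    rw [← E', fib _ _ hv' v0' hw w0, ← pt _ hv' v0', E', map_mul, map_mul, map_inv, pt v hv v0, E]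

theorem triv_un {n : ℕ} (hD : TMod D φ) (k : IsUn D n) (hn : 4 ≤ n) (h3 : ¬ 3 ∣ n) :
    Triv D φ := by
  obtain ⟨t, k⟩ := k
  have hK := F4.hK
  have fr : Module.finrank F4 (Fin n → F4) = n := by simp
  obtain ⟨π, hs, hc, L, hgen⟩ := um_lifts hD.cls k (by omega)
  let ψ := QuotientGroup.mk' (oddC H)
  have hψ : Function.Surjective ψ := QuotientGroup.mk'_surjective _
  have Zk : ∀ x ∈ center H, π x = 1 := fun x hx => by
    rw [← mem_bot, ← center_PU hK k.nd (by omega), mem_center_iff]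
    intro g
    obtain ⟨g, rfl⟩ := hs g
    rw [← map_mul, mem_center_iff.1 hx g, map_mul]
  let π' : H ⧸ oddC H →* PU (std F4 (Fin n)) :=
    QuotientGroup.lift _ π fun x hx => Zk x hx.1
  have e : ∀ x, π' (ψ x) = π x := fun x => rfl
  have hk : IsPGroup 2 π'.ker := by
    rintro ⟨x, hx⟩
    obtain ⟨x, rfl⟩ := hψ x
    obtain ⟨j, hj⟩ := pow_mem_oddC (hc x hx)
    exact ⟨j, Subtype.ext (by
      change ψ x ^ 2 ^ j = 1
      rw [← map_pow]; exact (QuotientGroup.eq_one_iff _).2 hj)⟩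
  have kle := (L.quot ψ hψ e).ker_le hK k.nd (by omega) (by omega)
    (fun x => by obtain ⟨z, rfl⟩ := hs x; exact ⟨ψ z, rfl⟩) hk (tSet_quot ψ hψ hgen)
  have kle2 : closure (lineSet (std F4 (Fin n)) fun v => ψ (t v)) ≤ (trC D φ).map ψ := by
    rw [closure_le]
    rintro _ ⟨ω, hω, u, w, a, rfl⟩
    have a1 := a.add 1
    rw [one_smul] at a1
    refine ⟨t w * t (w + u) * t (w + ω • u) * t (w + (ω + 1) • u) * t u,
      mem_trC hD (hc _ (L.map_line hK ⟨ω, hω, u, w, a, rfl⟩)) (k.mem u a.ee a.e0) fun x hx => ?_,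
      by simp only [map_mul]⟩
    have f : ∀ v, Col (std F4 (Fin n)) u v → φ (t v) x = x := fun v b =>
      hD.act_fix (k.mem u a.ee a.e0) (k.mem v b.ww b.w0) (L.cz hK b).symm hx
    rw [TM.act_mul, TM.act_mul, TM.act_mul, TM.act_mul,
      hD.act_fix (k.mem u a.ee a.e0) (k.mem u a.ee a.e0) (Commute.refl _) hx, f _ (a.add _),
      f _ (a.add _), f _ a1, f _ a]
  intro z hz j hj
  have zc : z ∈ center H := mem_center_of_forall hD.cls.2.2 hz
  obtain ⟨b, hb, E⟩ := kle2 (kle (show ψ z ∈ π'.ker from Zk z zc))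
  have ho : b⁻¹ * z ∈ oddC H := QuotientGroup.eq.1 E
  have h1 : z ^ orderOf (b⁻¹ * z) ∈ trC D φ := by
    have c : Commute b (b⁻¹ * z) := (mem_center_iff.1 hb.1 _).symm
    have := c.mul_pow (orderOf (b⁻¹ * z))
    rw [mul_inv_cancel_left, pow_orderOf_eq_one, mul_one] at this
    rw [this]; exact pow_mem hb _
  have h2 : z ∈ zpowers (z ^ orderOf (b⁻¹ * z)) := by
    rw [mem_zpowers_pow_iff]
    exact Nat.Coprime.coprime_dvd_right (orderOf_dvd_of_pow_eq_one hj)
      (Nat.Coprime.pow_right j (Nat.coprime_two_right.2 ho.2))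
  exact ((zpowers_le.2 h1) h2).2

end

variable {G : Type u} [Group G] [Finite G] {D : Set G}

theorem sec_of_cert (hD : IsThreeTranspositionClass D) {N r : ℕ} {m : ℕ → ℕ → ℕ}
    {ss : List (ℕ × ℕ × ℕ × ℕ)} (r0 : 0 < r) (hr : r ≤ N)
    (run : LC.run N m r ss (2 ^ r - 1) 0 = true) (s : ℕ → G ⧸ pCore 2 G)
    (mem : ∀ p < N, s p ∈ pr G '' D) (surj : ∀ x ∈ pr G '' D, ∃ p < N, s p = x)
    (inj : ∀ p < N, ∀ q < N, s p = s q → p = q)
    (hm : ∀ p < N, ∀ q < N, m p q < N ∧ s (m p q) = s p * s q * s p) : ∃ E, Sec D E := by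
  have hex : ∀ i, ∃ d, i < r → d ∈ D ∧ pr G d = s i := by
    intro i
    by_cases hi : i < r
    · obtain ⟨d, hd⟩ := mem i (by omega)
      exact ⟨d, fun _ => hd⟩
    · exact ⟨1, fun h => absurd h hi⟩
  choose g hg using hex
  set M := closure (g '' {i | i < r}) with hM
  have O : LC.Ov N m (fun (x : G) p => x ∈ D ∧ x ∈ M ∧ pr G x = s p) := by
    refine ⟨fun x p hx => TT.sq hD.1 hx.1, fun x y p q hp hq hx hy => ⟨TT.conj_mem'
      (TT.class_group hD) hx.1 hy.1, mul_mem (mul_mem hx.2.1 hy.2.1) hx.2.1, ?_⟩,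
      fun x y p q hp hq hx hy e => ?_,
      fun x y p q hp hq hx hy e => TT.braid hD.1 hx.1 hy.1 fun hc => e ?_⟩
    · rw [map_mul, map_mul, hx.2.2, hy.2.2, (hm p hp q hq).2]
    · have := (hm p hp q hq).2
      rw [e, ← hx.2.2, ← hy.2.2] at this
      have c : Commute x y := (pr_commute hD hx.1 hy.1).1 (by
        have h2 : pr G x * pr G x = 1 := by rw [← map_mul, TT.sq hD.1 hx.1, map_one]
        calc pr G x * pr G y = pr G x * pr G y * (pr G x * pr G x) := by rw [h2, mul_one]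
          _ = pr G y * pr G x := by rw [← mul_assoc, ← this])
      rw [c.eq, mul_assoc, TT.sq hD.1 hx.1, mul_one]
    · refine inj _ (hm p hp q hq).1 _ hq ?_
      rw [(hm p hp q hq).2, ← hx.2.2, ← hy.2.2, ← map_mul, ← map_mul, hc.eq, mul_assoc,
        TT.sq hD.1 hx.1, mul_one]
  obtain ⟨T, e1, e2⟩ := LC.exists_lift O hr (g := g)
    (fun i hi => ⟨(hg i hi).1, subset_closure ⟨i, hi, rfl⟩, (hg i hi).2⟩) run
  have hT := fun j hj => (e2 0 r0 j hj).1
  have eqv : ∀ x ∈ M, ∀ p < N, ∃ q < N, x * T p * x⁻¹ = T q := by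
    have gen : ∀ i < r, ∀ x : G, (∀ p < N, ∃ q < N, x * T p * x⁻¹ = T q) →
        ∀ p < N, ∃ q < N, (g i * x) * T p * (g i * x)⁻¹ = T q := by
      intro i hi x hx p hp
      obtain ⟨q, hq, E⟩ := hx p hp
      refine ⟨_, (hm i (by omega) q hq).1, ?_⟩
      rw [← (e2 i hi q hq).2, ← E, e1 i hi, mul_inv_rev, TT.inv_eq hD.1 (hg i hi).1]; group
    intro x hx
    induction hx using closure_induction_left with
    | one => exact fun p hp => ⟨p, hp, by simp⟩
    | mul_left x hx y _ ih => obtain ⟨i, hi, rfl⟩ := hx; exact gen i hi y ih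
    | inv_mul_cancel x hx y _ ih =>
      obtain ⟨i, hi, rfl⟩ := hx
      rw [TT.inv_eq hD.1 (hg i hi).1]; exact gen i hi y ih
  refine ⟨T '' {p | p < N}, ?_, ?_, fun d hd => ?_, ?_⟩
  · rintro _ ⟨p, hp, rfl⟩; exact (hT p hp).1
  · rintro _ ⟨p, hp, rfl⟩ _ ⟨q, hq, rfl⟩
    obtain ⟨q', hq', E⟩ := eqv _ (hT p hp).2.1 q hq
    rw [TT.inv_eq hD.1 (hT p hp).1] at E
    exact ⟨q', hq', E.symm⟩
  · obtain ⟨p, hp, E⟩ := surj _ ⟨d, hd, rfl⟩
    exact ⟨T p, ⟨p, hp, rfl⟩, (pr_eq_iff hD hd (hT p hp).1).1 (E.symm.trans (hT p hp).2.2.symm)⟩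
  · rintro _ ⟨p, hp, rfl⟩ _ ⟨q, hq, rfl⟩ h
    have := (pr_eq_iff hD (hT p hp).1 (hT q hq).1).2 h
    rw [(hT p hp).2.2, (hT q hq).2.2] at this
    rw [inj p hp q hq this]

theorem sec5 (hD : IsThreeTranspositionClass D) (k : IsUn (pr G '' D) 5) : ∃ E, Sec D E := by
  obtain ⟨t, k⟩ := k
  have hK := F4.hK
  obtain ⟨ω, hω, -⟩ := exists_omega hK
  have fib : ∀ v w, std F4 (Fin 5) v v = 0 → v ≠ 0 → std F4 (Fin 5) w w = 0 → w ≠ 0 →
      (t v = t w ↔ tva (std F4 (Fin 5)) v = tva (std F4 (Fin 5)) w) :=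
    fun v w hv v0 hw w0 => (k.eq_iff _ _ hv v0 hw w0).trans
      (tva_eq_iff hK k.nd (by simp) hv hw v0 w0).symm
  have i1 := fun p hp => U5.vec_iso hK hω (p := p) hp
  have i2 := fun p hp => U5.vec_ne hK hω (p := p) hp
  refine sec_of_cert hD (by norm_num) (by norm_num) U5.run_ok (fun p => t (U5.dec ω (U5.P p)))
    (fun p hp => k.mem _ (i1 p hp) (i2 p hp)) (fun x hx => ?_)
    (fun p hp q hq e => U5.tva_inj hK hω hp hq
      ((fib _ _ (i1 p hp) (i2 p hp) (i1 q hq) (i2 q hq)).1 e)) fun p hp q hq => ?_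
  · obtain ⟨v, hv, v0, rfl⟩ := k.surj x hx
    obtain ⟨y, hy, rfl⟩ := U5.dec_surj hK hω v
    obtain ⟨a, b⟩ := U5.exists_pt hK hω hy hv v0
    exact ⟨_, a, (fib _ _ (i1 _ a) (i2 _ a) hv v0).2 b⟩
  · obtain ⟨a, b⟩ := U5.tva_m hK hω hp hq
    refine ⟨a, ?_⟩
    rw [k.conj _ _ (i1 p hp) (i2 p hp) (i1 q hq) (i2 q hq), fib _ _ (i1 _ a) (i2 _ a)
      (iso_conj hK (i1 p hp) (i1 q hq)) (ne_zero_conj hK (i1 p hp) (i2 q hq)), b,
      ← tva_conj hK (i1 p hp), tva_inv hK (i1 p hp)]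

namespace U4

/-- codes of the points -/
def PT : ℕ := 0x7f7e7d7b79777675706f6e6d6b6a696765605f5e5d5b5a575655504c4844434241181413120706051c5911667a

/-- the table -/
def MT : ℕ := 0x2caab9c6a479646a22204cd2d25a325811b54c7dc4410ce79474a6619a81573c2400aabb05a2700690266131f5524036a220f11e50e7517174cd80128960796959b8cb9abb2aa65166a248c961439e40b5c26616cf3604c145d59f54c70a8880069c311a4879c5aa902c98790a3d25df21d35468c06024b6d185342239c6558d67a51ab103098a06ae50289c5aa43d22a024365c54d7580966d12e25108c168c4e17c81ec9847973a9a6b16ca279669230cd11149521929b41731d25379f60f3a158b69470702a82208118702aa459669e43225d211109c61029b85654122079a3c33632d9253b06a1f39d52bb06a07aa69e59163a145211d4da6d028d8c251c7e064f89730b601229ac578354902caeaa689e69644d55186990d649f7a005c8a18db2842c22483d134c1c615074e5c0682a8a3e73164e386275f1a071bb1925794442401152838398ba5820178554dac74ac6493d20e63958628c505e7466c8ad8316904428453a653572c0a9a1dc8149c27ca22b61228d5e55228e1807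70579b682aa6390904a515405a730ba09b1f19d4c36413ec3145e811245874586079f8c76cb3e4a5656a36695064e4eb68a0c87068a72400424eb3a92511126a304779f80671b90b3c800c52c967418a8d5592a85e17459830a258d56a2034911191a271f81e7616cf90b5c2ace4e7990694b0c60a2691e3065a161402d24296550a50e08858c679d05b6a834a467509ad6a8f39802c5d32077e112499c31240b3682264d68c67877e105c6c039846454296c5eb3d9a4ca8326782214429475a5835d455961a4a38a181f79d71b9679aab28a4090b28420225140c3871853eb3414e3ac2a4d2906dfb0884b90f74095a6195565c74d246678ea018272625031441aa31c262a8c75b2907a3ac23cb9283a761968551558649196070da5f9ac2074d710384102c22106841b2a0262aa43cb35c9996985c71540d24677c074c7a58eb5865444c2a4e10f6e00a784d063326a4878a46a5456170da50749c42b3a588b7497d3199b16a2401b10f2683268dc9623a0002464b1a5070d61994d2750aa13672c1a4861516b5de29fb1e34b6dd98288491080cae77285d915a1954d448084f3aa7e92890475988c394844cae06d124196140492a7ce742a475985d94d4552a233de36c00a9c86860e215c98b7cea912e721c8e440436c789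9406860c75945534a988fae032829d9976458580816dc7418627a07db028a66967aec91a6585d65544d210b28920240f38d1c61510ccaa3b2ba9351f7a02a38a19679965cb69961c740a291113d014719b90920d30e48108354171da6861a6445135607deaab2a69675d686388b3d044614749b24830e3640c2b000d75a28e79a52e8a4065869d7047a07eba9551329044f1c616448920e34c6ec08186c4dfa419c38828e55a0a9475921a7005e155eac91461ce30d2ca49b3d04449a4a187ab55c6a19972438a74dfb18a42a197655aa52020714630d38b2a44913d01236c101482a6685a394899786b55e01c241a588a77ec4c218714d38c2ca6e44113c40d269d7417154e79a53e38a169962ca9181f7975a902841b4a438d30b1061422482831eb52caea8e1699611a40a207de5c34279a57415544cf91b48e34c10a1c624808b7055a266b8967d4981358aa10e879370c6ac8d7a559dd39140f4a46c61c908a2c416022502162a7a871394c8dab205e97673a266b7d605498d4503db4a414608810a2c70095439ab025a27b2990189f72179d81b51959361569748d30e3d140224a1071462032e3aa896aa6c026ae479c8607637e26c34d85d559465230e3503d12482ca1461c2684067b299eb9aaa2592381d89f06171b6975595980d348e34c4503c80842c61c525429e017583a6881f7905544e79a575c3da658b2b8e28514a46ce34c28b147202244a860403db1297a23a574d9e125fa242ab1994d65d515848142c9a330b720007694a8309122c8daa579dd54eae26407d699436a858a1e95c4cc4503e46d21c52092c42860c206040b4983a75095c77e182215c75b319a64288993a83b0fa0d6ab5a556319e11108102c987a291ab96448a3c259e31a4dc64e5df44b6e355085835d522243aa7144220040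

/-- the steps -/
def ST : ℕ := 0x170402102c010000160f042c0f030019210200001f0701001304010f2100000013080521130400001b03030d1b0200001308011b130000000e000413180300000e0101180e000000141102001702020e280100292800000017110300160303281702000017110224170100000a01041716030000160401000a01011f160000000a040200050202160a010000080601000a0401220a00000006050300050403000503030a050200000504021e050100002014040014070405140300001a0b01000c01011c1a000000230c0200200c02000c0602000c02021a0c010000200c011d0c0000012b020d00110403001200030c12020000230201000b0101262b0000000702022b0b010000070201140b00000b070200001504010007010112230000000704022307010000040301072a00002a040300000802022509010000080201090802000004020127060000060402000003010115110000110301000803000020020000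

/-- code of a point -/
def P (p : ℕ) : ℕ := Nat.mod (Nat.shiftRight PT (Nat.mul 8 p)) 256

/-- the image of `q` under the transvection with centre `p` -/
def m (p q : ℕ) : ℕ := Nat.mod (Nat.shiftRight MT (Nat.mul 6 (Nat.add (Nat.mul 45 p) q))) 64

theorem run_ok : LC.run 45 m 5 (U5.unpk ST 89 []) (2 ^ 5 - 1) 0 = true := by decide +kernel

theorem pts : ∀ p < 45, hB (dB (P p)) (dB (P p)) = 0 ∧ dB (P p) ≠ 0 := by decide +kernel

theorem cover : ∀ x, hB x x = 0 → x ≠ 0 → ∃ p < 45, prB x (dB (P p)) = true := by decide +kernel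

/-- the check for a pair -/
noncomputable def chk (p q : ℕ) : Bool :=
  frc (P p) fun a => frc (P q) fun b => frc (m p q) fun c =>
    (!prB (dB b) (dB a) || Nat.beq p q) && (Nat.blt c 45 &&
    prB (dB (P c)) fun i => F4.add (dB b i) (F4.mul (hB (dB b) (dB a)) (dB a i)))

theorem tab : ((List.range 45).all fun p => (List.range 45).all fun q => chk p q) = true := by
  decide +kernel

theorem tab' {p q : ℕ} (hp : p < 45) (hq : q < 45) :
    ((∃ a : F4, a ≠ 0 ∧ dB (P q) = a • dB (P p)) → p = q) ∧ m p q < 45 ∧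
    ∃ a : F4, a ≠ 0 ∧ dB (P (m p q)) = a • (dB (P q) + hB (dB (P q)) (dB (P p)) • dB (P p)) := by
  have h1 := List.all_eq_true.1 (List.all_eq_true.1 tab _ (List.mem_range.2 hp)) _
    (List.mem_range.2 hq)
  simp only [chk, frc_eq, Bool.and_eq_true, Bool.or_eq_true, Nat.beq_eq, Nat.blt_eq,
    Bool.not_eq_true'] at h1
  refine ⟨fun e => h1.1.resolve_left fun e' => ?_, h1.2.1, (prB_iff _ _).1 h1.2.2⟩
  rw [(prB_iff _ _).2 e] at e'
  cases e'

end U4

theorem sec4 (hD : IsThreeTranspositionClass D) (k : IsUn (pr G '' D) 4) : ∃ E, Sec D E := by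
  obtain ⟨t, k⟩ := k
  have e1 : ∀ x y, std F4 (Fin 4) x y = hB x y := fun x y => by
    rw [std_apply, Fin.sum_univ_four]; rfl
  have i1 : ∀ p < 45, std F4 (Fin 4) (dB (U4.P p)) (dB (U4.P p)) = 0 :=
    fun p hp => (e1 _ _).trans (U4.pts p hp).1
  have i2 := fun p hp => (U4.pts p hp).2
  refine sec_of_cert hD (by norm_num) (by norm_num) U4.run_ok (fun p => t (dB (U4.P p)))
    (fun p hp => k.mem _ (i1 p hp) (i2 p hp)) (fun x hx => ?_)
    (fun p hp q hq e => (U4.tab' hp hq).1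
      ((k.eq_iff _ _ (i1 p hp) (i2 p hp) (i1 q hq) (i2 q hq)).1 e)) fun p hp q hq => ?_
  · obtain ⟨v, hv, v0, rfl⟩ := k.surj x hx
    obtain ⟨p, hp, e⟩ := U4.cover v (e1 v v ▸ hv) v0
    obtain ⟨a, ha, rfl⟩ := (prB_iff _ _).1 e
    exact ⟨p, hp, (k.smul (i1 p hp) (i2 p hp) ha).symm⟩
  · obtain ⟨-, a, c, hc, e⟩ := U4.tab' hp hq
    refine ⟨a, ?_⟩
    rw [k.conj _ _ (i1 p hp) (i2 p hp) (i1 q hq) (i2 q hq), e, ← e1,
      k.smul (iso_conj F4.hK (i1 p hp) (i1 q hq)) (ne_zero_conj F4.hK (i1 p hp) (i2 q hq)) hc]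

end CA.Rad
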